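import Groth.Agent.Lib.AlgSpMor.SchImage.Main
import Groth.Agent.Lib.AlgSpace.OpenSubExists

/-!
# Morphisms out of an algebraic space given on a jointly surjective family of etale charts
-/

set_option autoImplicit false
set_option linter.style.haveILetI false

universe w u

open CategoryTheory CategoryTheory.Limits AlgebraicGeometry
open AlgSp Groth.Agent.Lib.AlgSpace Groth.Agent.Lib.AlgSpMor Groth.Agent.Lib.AlgSpMor.SchImage

namespace Groth.Agent.Lib.AlgSpColimit

variable {S : Scheme.{u}} {C : Sp S} {κ : Type w} {O : κ → Over S}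
  {c : ∀ k, (yon S).obj (O k) ⟶ C}

/-- The pullbacks of an etale covering family to a scheme form an etale covering family. -/
theorem exists_cover (hC : IsAlgSpace C) (he : ∀ k, RepWith @Etale (c k))
    (hs : ∀ x : Points C, ∃ k o, Points.ofPt (c k) o = x) {T : Over S} (ξ : (yon S).obj T ⟶ C) :
    ∃ (R : κ → Over S) (p : ∀ k, R k ⟶ T) (q : ∀ k, R k ⟶ O k),
      (∀ k, IsPullback ((yon S).map (p k)) ((yon S).map (q k)) ξ (c k)) ∧
        Sieve.ofArrows R p ∈ AlgSp.J S T := by
  choose R p q sq using fun k ↦ exists_isPullback_yon hC.diag ξ (c k)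
  have hp : ∀ k, Etale (p k).left := fun k ↦ repWith_property (he k) (sq k).flip
  refine ⟨R, p, q, sq, ofArrows_mem_J R p (fun k ↦ haveI := hp k; inferInstance)
    (fun k ↦ haveI := hp k; inferInstance) fun x ↦ ?_⟩
  obtain ⟨k, o, ho⟩ := hs (Points.ofPt ξ x)
  obtain ⟨r, hr, -⟩ := (ofPt_eq_ofPt_iff_of_isPullback (sq k) x o).1 ho.symm
  exact ⟨k, r, hr⟩

/-- Maps agreeing on an etale covering family are equal. -/
theorem hom_ext_family (hC : IsAlgSpace C) (he : ∀ k, RepWith @Etale (c k))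
    (hs : ∀ x : Points C, ∃ k o, Points.ofPt (c k) o = x) {F : Sp S} {a b : C ⟶ F}
    (h : ∀ k, c k ≫ a = c k ≫ b) : a = b := by
  refine hom_ext fun T ξ ↦ ?_
  obtain ⟨R, p, q, sq, hcov⟩ := exists_cover hC he hs ξ
  refine hom_ext_of_family R p hcov fun k ↦ ?_
  rw [reassoc_of% (sq k).w, reassoc_of% (sq k).w, h]

/-- Maps given on an etale covering family and agreeing on overlaps glue. -/
theorem exists_desc_family (hC : IsAlgSpace C) (he : ∀ k, RepWith @Etale (c k))
    (hs : ∀ x : Points C, ∃ k o, Points.ofPt (c k) o = x) {F : Sp S}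
    (a : ∀ k, (yon S).obj (O k) ⟶ F)
    (h : ∀ (k l : κ) (W : Over S) (gk : W ⟶ O k) (gl : W ⟶ O l),
      (yon S).map gk ≫ c k = (yon S).map gl ≫ c l → (yon S).map gk ≫ a k = (yon S).map gl ≫ a l) :
    ∃ g : C ⟶ F, ∀ k, c k ≫ g = a k := by
  have step : ∀ (T : Over S) (ξ : (yon S).obj T ⟶ C), ∃! g : (yon S).obj T ⟶ F,
      ∀ (k : κ) (W : Over S) (r : W ⟶ T) (l : W ⟶ O k),
        (yon S).map r ≫ ξ = (yon S).map l ≫ c k → (yon S).map r ≫ g = (yon S).map l ≫ a k := by
    intro T ξ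
    obtain ⟨R, p, q, sq, hcov⟩ := exists_cover hC he hs ξ
    obtain ⟨g, hg, hu⟩ := exists_desc_of_family R p hcov (fun k ↦ (yon S).map (q k) ≫ a k)
      fun i j W gi gj e ↦ by
        rw [← Category.assoc, ← Category.assoc, ← Functor.map_comp, ← Functor.map_comp]
        refine h i j W _ _ ?_
        rw [Functor.map_comp, Functor.map_comp, Category.assoc, Category.assoc, ← (sq i).w,
          ← (sq j).w, ← Category.assoc, ← Category.assoc, ← Functor.map_comp, ← Functor.map_comp, e]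
    refine ⟨g, fun k W r l e ↦ ?_, fun g' hg' ↦ hu g' fun k ↦ hg' k (R k) (p k) (q k) (sq k).w⟩
    obtain ⟨n, hn⟩ := (yon S).map_surjective ((sq k).lift _ _ e)
    have h1 : n ≫ p k = r := (yon S).map_injective (by rw [Functor.map_comp, hn, (sq k).lift_fst])
    have h2 : n ≫ q k = l := (yon S).map_injective (by rw [Functor.map_comp, hn, (sq k).lift_snd])
    rw [← h1, ← h2, Functor.map_comp, Functor.map_comp, Category.assoc, Category.assoc, hg]
  choose φ hφ hu using step
  refine ⟨homMkYon φ fun {T T'} g ξ ↦ (hu T' _ _ fun k W r l e ↦ ?_).symm, fun k ↦ ?_⟩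
  · rw [← Category.assoc, ← Functor.map_comp]
    exact hφ T ξ k W (r ≫ g) l (by rw [Functor.map_comp, Category.assoc, e])
  · rw [comp_homMkYon]
    have := hφ (O k) (c k) k (O k) (𝟙 _) (𝟙 _) rfl
    rwa [CategoryTheory.Functor.map_id, Category.id_comp, Category.id_comp] at this

/-- A morphism from an algebraic space has an etale covering by affine schemes compatible with an
affine etale covering of the target. -/
theorem exists_adapted {X B : Sp S} (hX : IsAlgSpace X) (hB : IsAlgSpace B) (t : X ⟶ B) :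
    ∃ (κ : Type u) (Zs B' : κ → Over S) (z : ∀ k, Zs k ⟶ B' k)
      (a : ∀ k, (yon S).obj (Zs k) ⟶ X) (b : ∀ k, (yon S).obj (B' k) ⟶ B),
      (∀ k, IsAffine (Zs k).left) ∧ (∀ k, IsAffine (B' k).left) ∧
      (∀ k, RepWith @Etale (a k)) ∧ (∀ k, RepWith @Etale (b k)) ∧
      (∀ x : Points X, ∃ k o, Points.ofPt (a k) o = x) ∧
      ∀ k, a k ≫ t = (yon S).map (z k) ≫ b k := by
  obtain ⟨κB, OB, πB, hOB, heB, hsB⟩ := exists_sigma_atlas hB
  obtain ⟨U, π, he, hs⟩ := hX.atlas
  obtain ⟨R, p, q, sq⟩ := exists_isPullback_yon hB.diag (π ≫ t) πB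
  haveI : Etale p.left := repWith_property heB sq.flip
  haveI : Surjective p.left := repWith_property hsB sq.flip
  choose j hj using exists_mem_compOpen q
  choose W c hW hc hxc hsub using fun x ↦ exists_affine_nhd (compOpen q (j x)) (hj x)
  choose l hl using fun x ↦ exists_lift_of_subset_compOpen q (j x) (c x) (hsub x)
  refine ⟨↥R.left, W, fun x ↦ OB (j x), l, fun x ↦ (yon S).map (c x ≫ p) ≫ π,
    fun x ↦ (yon S).map (sigmaOverι OB (j x)) ≫ πB, hW, fun x ↦ hOB _,
    fun x ↦ repWith_comp (repWith_etale_yon_map (haveI := hc x;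
      inferInstanceAs (Etale ((c x).left ≫ p.left)))) he,
    fun x ↦ repWith_comp (repWith_etale_yon_map (inferInstanceAs
      (Etale (Sigma.ι (fun i ↦ (OB i).left) (j x))))) heB, fun y ↦ ?_, fun x ↦ ?_⟩
  · obtain ⟨u, rfl⟩ := surjective_ofPt hs y
    obtain ⟨r, rfl⟩ := p.left.surjective u
    obtain ⟨o, ho⟩ := hxc r
    exact ⟨r, o, by rw [ofPt_yon_map_comp, Over.comp_left, Scheme.Hom.comp_apply, ho]⟩
  · rw [Category.assoc, Functor.map_comp, Category.assoc, sq.w, ← Category.assoc, ← Functor.map_comp,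
      ← hl, Functor.map_comp, Category.assoc]

/-- An etale cover of an algebraic space by affine schemes. -/
theorem exists_affine_family {X : Sp S} (hX : IsAlgSpace X) :
    ∃ (κ : Type u) (O : κ → Over S) (c : ∀ k, (yon S).obj (O k) ⟶ X),
      (∀ k, IsAffine (O k).left) ∧ (∀ k, RepWith @Etale (c k)) ∧
      ∀ x : Points X, ∃ k o, Points.ofPt (c k) o = x := by
  obtain ⟨κ, Zs, B', z, a, b, hZ, -, ha, -, hs, -⟩ := exists_adapted hX hX (𝟙 X)
  exact ⟨κ, Zs, a, hZ, ha, hs⟩

end Groth.Agent.Lib.AlgSpColimit
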