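import Groth.Agent.Lib.AlgSpColimit.EtaleFamily
import Groth.Agent.Lib.AlgSpTopInv.Basic
import Groth.Agent.Lib.AlgSpDecent.DescendMor

/-!
# Colimits of algebraic spaces detected by etale descent and affine charts
-/

set_option autoImplicit false
set_option linter.style.haveILetI false

universe w v u

open CategoryTheory CategoryTheory.Limits AlgebraicGeometry
open AlgSp Groth.Agent.Lib.AlgSpace Groth.Agent.Lib.AlgSpMor

namespace Groth.Agent.Lib.AlgSpColimit.EtaleDescent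

variable {S : Scheme.{u}} {I : Type v} [Category.{w} I] {B C : Sp S} {tC : C ⟶ B}
  {D : I ⥤ Sp S} {ι : ∀ i, D.obj i ⟶ C}

/-- The transition maps of the base change of a diagram with a cocone. -/
noncomputable def tr (hι : ∀ ⦃i j : I⦄ (f : i ⟶ j), D.map f ≫ ι j = ι i) {U : Sp S} (u : U ⟶ C)
    {i j : I} (f : i ⟶ j) : pullback u (ι i) ⟶ pullback u (ι j) :=
  pullback.lift (pullback.fst _ _) (pullback.snd _ _ ≫ D.map f)
    (by rw [Category.assoc, hι, pullback.condition])

/-- The hypotheses: etale descent along the cocone, and unique maps to affine schemes. -/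
structure Hyp (tC : C ⟶ B) (D : I ⥤ Sp S) (ι : ∀ i, D.obj i ⟶ C) : Prop where
  hB : IsAlgSpace B
  hC : IsAlgSpace C
  hD : ∀ i, IsAlgSpace (D.obj i)
  hι : ∀ ⦃i j : I⦄ (f : i ⟶ j), D.map f ≫ ι j = ι i
  exist : ∀ (D' : I ⥤ Sp S) (α : D' ⟶ D), (∀ i, IsAlgSpace (D'.obj i)) →
    (∀ ⦃i j : I⦄ (f : i ⟶ j), IsPullback (D'.map f) (α.app i) (α.app j) (D.map f)) →
    (∀ i, IsEtaleMor (α.app i)) →
      ∃ (V : Sp S) (_ : IsAlgSpace V) (e : V ⟶ C) (k : ∀ i, D'.obj i ⟶ V), IsEtaleMor e ∧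
        (∀ i, IsPullback (k i) (α.app i) e (ι i)) ∧ ∀ ⦃i j : I⦄ (f : i ⟶ j), D'.map f ≫ k j = k i
  full : ∀ (U U' : Sp S), IsAlgSpace U → IsAlgSpace U' → ∀ (u : U ⟶ C) (u' : U' ⟶ C),
    IsEtaleMor u → IsEtaleMor u' → ∀ (k : ∀ i, pullback u (ι i) ⟶ U'),
    (∀ i, k i ≫ u' = pullback.snd u (ι i) ≫ ι i) →
    (∀ ⦃i j : I⦄ (f : i ⟶ j), tr hι u f ≫ k j = k i) →
      ∃! m : U ⟶ U', m ≫ u' = u ∧ ∀ i, pullback.fst u (ι i) ≫ m = k i
  aff : ∀ (B' Zs Us : Over S) (b : (yon S).obj B' ⟶ B) (z : Zs ⟶ B'),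
    IsAffine B'.left → IsAffine Zs.left → IsAffine Us.left → RepWith @Etale b →
    ∀ (uu : (yon S).obj Us ⟶ pullback tC b), RepWith @Etale uu →
    ∀ (φ : ∀ i, pullback (uu ≫ pullback.fst tC b) (ι i) ⟶ (yon S).obj Zs),
    (∀ ⦃i j : I⦄ (f : i ⟶ j), tr hι (uu ≫ pullback.fst tC b) f ≫ φ j = φ i) →
    (∀ i, φ i ≫ (yon S).map z = pullback.fst _ _ ≫ uu ≫ pullback.snd tC b) →
      ∃! fz : (yon S).obj Us ⟶ (yon S).obj Zs,
        fz ≫ (yon S).map z = uu ≫ pullback.snd tC b ∧ ∀ i, pullback.fst _ _ ≫ fz = φ i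

variable (H : Hyp tC D ι)

include H

theorem isAlgSpace_pullback_ι {U : Sp S} (hU : IsAlgSpace U) (u : U ⟶ C) (i : I) :
    IsAlgSpace (pullback u (ι i)) :=
  isAlgSpace_of_isPullback (IsPullback.of_hasPullback _ _) H.hC.diag hU (H.hD i)

/-- Maps between spaces etale over the colimit are determined by the base changes. -/
theorem eq_of_agree {U U' : Sp S} (hU : IsAlgSpace U) (hU' : IsAlgSpace U') {u : U ⟶ C}
    {u' : U' ⟶ C} (hu : IsEtaleMor u) (hu' : IsEtaleMor u') {m₁ m₂ : U ⟶ U'} (h₁ : m₁ ≫ u' = u)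
    (h₂ : m₂ ≫ u' = u) (h : ∀ i, pullback.fst u (ι i) ≫ m₁ = pullback.fst u (ι i) ≫ m₂) :
    m₁ = m₂ :=
  (H.full U U' hU hU' u u' hu hu' (fun i ↦ pullback.fst u (ι i) ≫ m₁)
    (fun i ↦ by rw [Category.assoc, h₁, pullback.condition])
    (fun i j f ↦ by rw [tr, pullback.lift_fst_assoc])).unique
    ⟨h₁, fun _ ↦ rfl⟩ ⟨h₂, fun i ↦ (h i).symm⟩

omit H in
/-- The affine condition, for arbitrary test objects. -/
def Good {B' Zs W : Over S} {b : (yon S).obj B' ⟶ B} {V : Sp S} {Q : I → Sp S}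
    (z : Zs ⟶ B') (m : V ⟶ pullback tC b) (k : ∀ i, Q i ⟶ V) (q : ∀ i, Q i ⟶ (yon S).obj Zs)
    (χ : (yon S).obj W ⟶ V) (fz : (yon S).obj W ⟶ (yon S).obj Zs) : Prop :=
  fz ≫ (yon S).map z = χ ≫ m ≫ pullback.snd tC b ∧
    ∀ (i : I) (A : Sp S) (r : A ⟶ (yon S).obj W) (d : A ⟶ Q i),
      r ≫ χ = d ≫ k i → r ≫ fz = d ≫ q i

omit H in
omit [Category.{w} I] in
theorem Good.comap {B' Zs W W' : Over S} {b : (yon S).obj B' ⟶ B} {V : Sp S} {Q : I → Sp S}
    {z : Zs ⟶ B'} {m : V ⟶ pullback tC b} {k : ∀ i, Q i ⟶ V} {q : ∀ i, Q i ⟶ (yon S).obj Zs}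
    {χ : (yon S).obj W ⟶ V} {fz : (yon S).obj W ⟶ (yon S).obj Zs} (h : Good z m k q χ fz)
    (r : (yon S).obj W' ⟶ (yon S).obj W) : Good z m k q (r ≫ χ) (r ≫ fz) :=
  ⟨by rw [Category.assoc, h.1, Category.assoc], fun i A r' d e ↦ by
    rw [← Category.assoc]; exact h.2 i A _ d (by rw [Category.assoc]; exact e)⟩

variable {B' Zs : Over S} {b : (yon S).obj B' ⟶ B} {z : Zs ⟶ B'} {V : Sp S} {e : V ⟶ C}
  {D' : I ⥤ Sp S} {α : D' ⟶ D} {k : ∀ i, D'.obj i ⟶ V} {m : V ⟶ pullback tC b}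
  {q : ∀ i, D'.obj i ⟶ (yon S).obj Zs}

theorem existsUnique_good (hZs : IsAffine Zs.left) (hB' : IsAffine B'.left) (hb : RepWith @Etale b)
    (hme : IsEtaleMor m) (hm : m ≫ pullback.fst tC b = e)
    (sq : ∀ i, IsPullback (k i) (α.app i) e (ι i))
    (hk : ∀ ⦃i j : I⦄ (f : i ⟶ j), D'.map f ≫ k j = k i)
    (hq : ∀ ⦃i j : I⦄ (f : i ⟶ j), D'.map f ≫ q j = q i)
    (hqz : ∀ i, q i ≫ (yon S).map z = k i ≫ m ≫ pullback.snd tC b)
    {W : Over S} (hW : IsAffine W.left) (χ : (yon S).obj W ⟶ V) (hχ : RepWith @Etale χ) :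
    ∃! fz, Good z m k q χ fz := by
  let u := (χ ≫ m) ≫ pullback.fst tC b
  have e1 : u = χ ≫ e := (Category.assoc _ _ _).trans (congrArg (χ ≫ ·) hm)
  have hl : ∀ i, (pullback.fst u (ι i) ≫ χ) ≫ e =
      pullback.snd u (ι i) ≫ ι i := fun i ↦ by
    rw [Category.assoc]
    exact (congrArg (pullback.fst u (ι i) ≫ ·) e1.symm).trans pullback.condition
  obtain ⟨l, hl₁, hl₂⟩ : ∃ l : ∀ i, pullback u (ι i) ⟶ D'.obj i,
      (∀ i, l i ≫ k i = pullback.fst _ _ ≫ χ) ∧ ∀ i, l i ≫ α.app i = pullback.snd _ _ :=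
    ⟨fun i ↦ (sq i).lift _ _ (hl i), fun i ↦ (sq i).lift_fst _ _ _, fun i ↦ (sq i).lift_snd _ _ _⟩
  have hnat : ∀ ⦃i j : I⦄ (f : i ⟶ j),
      tr H.hι u f ≫ l j = l i ≫ D'.map f := fun i j f ↦ by
    refine (sq j).hom_ext ?_ ?_
    · rw [Category.assoc, Category.assoc, hl₁, hk, hl₁, tr, pullback.lift_fst_assoc]
    · rw [Category.assoc, Category.assoc, hl₂, α.naturality, reassoc_of% (hl₂ i), tr,
        pullback.lift_snd]
  obtain ⟨fz, ⟨hf₁, hf₂⟩, hu⟩ := H.aff B' Zs W b z hB' hZs hW hb (χ ≫ m) (hme χ hχ)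
    (fun i ↦ l i ≫ q i)
    (fun i j f ↦ ((reassoc_of% (hnat f)) _).trans (congrArg (l i ≫ ·) (hq f)))
    (fun i ↦ (Category.assoc _ _ _).trans ((congrArg (l i ≫ ·) (hqz i)).trans
      ((reassoc_of% (hl₁ i)) _ |>.trans (congrArg (pullback.fst u (ι i) ≫ ·)
        (Category.assoc χ m _).symm))))
  refine ⟨fz, ⟨by rw [hf₁, Category.assoc], fun i A r d hd ↦ ?_⟩, fun fz' h ↦ hu fz'
    ⟨by rw [h.1, Category.assoc], fun i ↦ h.2 i _ _ (l i) (hl₁ i).symm⟩⟩
  obtain ⟨n, hn₁, hn₂⟩ : ∃ n, n ≫ pullback.fst u (ι i) = r ∧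
      n ≫ pullback.snd _ _ = d ≫ α.app i :=
    ⟨pullback.lift r (d ≫ α.app i) (by rw [e1, reassoc_of% hd, (sq i).w, Category.assoc]),
      pullback.lift_fst _ _ _, pullback.lift_snd _ _ _⟩
  have hd' : n ≫ l i = d := by
    refine (sq i).hom_ext ?_ ?_
    · rw [Category.assoc, hl₁, reassoc_of% hn₁, hd]
    · rw [Category.assoc, hl₂, hn₂]
  rw [← hn₁, Category.assoc, hf₂, reassoc_of% hd']

/-- Maps to an affine scheme over an affine chart of the base, given on the base changes. -/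
theorem existsUnique_affine (hZs : IsAffine Zs.left) (hB' : IsAffine B'.left)
    (hb : RepWith @Etale b) (hV : IsAlgSpace V) (hme : IsEtaleMor m)
    (hm : m ≫ pullback.fst tC b = e) (sq : ∀ i, IsPullback (k i) (α.app i) e (ι i))
    (hk : ∀ ⦃i j : I⦄ (f : i ⟶ j), D'.map f ≫ k j = k i)
    (hq : ∀ ⦃i j : I⦄ (f : i ⟶ j), D'.map f ≫ q j = q i)
    (hqz : ∀ i, q i ≫ (yon S).map z = k i ≫ m ≫ pullback.snd tC b) :
    ∃! w : V ⟶ (yon S).obj Zs,
      w ≫ (yon S).map z = m ≫ pullback.snd tC b ∧ ∀ i, k i ≫ w = q i := by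
  obtain ⟨κ, O, c, hO, hc, hcs⟩ := exists_affine_family hV
  choose f hf hfu using fun j ↦ existsUnique_good H hZs hB' hb hme hm sq hk hq hqz (hO j) (c j) (hc j)
  obtain ⟨w, hw⟩ := exists_desc_family hV hc hcs f fun j l W gj gl e' ↦ by
    obtain ⟨R, p, p', sqR⟩ := exists_isPullback_yon hV.diag (c j) (c l)
    haveI : Etale p.left := repWith_property (hc l) sqR.flip
    haveI : Etale p'.left := repWith_property (hc j) sqR
    obtain ⟨n, hn⟩ := (yon S).map_surjective (sqR.lift _ _ e')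
    suffices (yon S).map p ≫ f j = (yon S).map p' ≫ f l by
      calc (yon S).map gj ≫ f j = (yon S).map n ≫ (yon S).map p ≫ f j := by
            rw [← Category.assoc, hn, sqR.lift_fst]
        _ = (yon S).map gl ≫ f l := by rw [this, ← Category.assoc, hn, sqR.lift_snd]
    choose Wx cx hWx hcx hxc _ using fun x : ↥R.left ↦
      SchImage.exists_affine_nhd (⊤ : R.left.Opens) (x := x) trivial
    refine hom_ext_of_family Wx cx (ofArrows_mem_J Wx cx (fun x ↦ haveI := hcx x; inferInstance)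
      (fun x ↦ haveI := hcx x; inferInstance) fun x ↦ ⟨x, hxc x⟩) fun x ↦ ?_
    have hχ : RepWith @Etale ((yon S).map (cx x) ≫ (yon S).map p ≫ c j) :=
      repWith_comp (repWith_etale_yon_map (haveI := hcx x; inferInstance))
        (repWith_comp (repWith_etale_yon_map ‹Etale p.left›) (hc j))
    refine (existsUnique_good H hZs hB' hb hme hm sq hk hq hqz (hWx x) _ hχ).unique
      (((hf j).comap _).comap _) ?_
    rw [sqR.w]
    exact ((hf l).comap _).comap _
  refine ⟨w, ⟨hom_ext_family hV hc hcs fun j ↦ by rw [← Category.assoc, hw, (hf j).1], fun i ↦ ?_⟩,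
    fun w' ⟨h1, h2⟩ ↦ hom_ext_family hV hc hcs fun j ↦ ?_⟩
  · refine hom_ext fun T ξ ↦ ?_
    obtain ⟨R, p, p', sqR, hcov⟩ := exists_cover hV hc hcs (ξ ≫ k i)
    refine hom_ext_of_family R p hcov fun j ↦ ?_
    rw [reassoc_of% (sqR j).w, hw,
      (hf j).2 i _ ((yon S).map (p' j)) ((yon S).map (p j) ≫ ξ)
        (by rw [← (sqR j).w, Category.assoc]), Category.assoc]
  · rw [hw]
    refine hfu j _ ⟨by rw [Category.assoc, h1], fun i A r d hd ↦ ?_⟩
    rw [reassoc_of% hd, h2]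

omit m q in
/-- Two maps over `B` from a space etale over the colimit which agree on the base changes are
equal. -/
theorem eq_of_agree_target {Q X : Sp S} (hQ : IsAlgSpace Q) (hX : IsAlgSpace X) {u : Q ⟶ C}
    (hu : IsEtaleMor u) (x : X ⟶ B) {g g' : Q ⟶ X} (hg : g ≫ x = u ≫ tC) (hg' : g' ≫ x = u ≫ tC)
    (h : ∀ i, pullback.fst u (ι i) ≫ g = pullback.fst u (ι i) ≫ g') : g = g' := by
  obtain ⟨κ, Zs, B', z, a, b, hZ, hB', ha, hb, has, hab⟩ := exists_adapted hX H.hB x
  refine hom_ext fun T ξ ↦ ?_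
  obtain ⟨R, p, p', sqR, hcov⟩ := exists_cover hX ha has (ξ ≫ g)
  refine hom_ext_of_family R p hcov fun j ↦ ?_
  suffices key : pullback.fst g (a j) ≫ g = pullback.fst g (a j) ≫ g' by
    obtain ⟨n, hn⟩ : ∃ n, n ≫ pullback.fst g (a j) = (yon S).map (p j) ≫ ξ :=
      ⟨pullback.lift _ _ (show ((yon S).map (p j) ≫ ξ) ≫ g = _ by
        rw [Category.assoc]; exact (sqR j).w), pullback.lift_fst _ _ _⟩
    rw [← reassoc_of% hn, key, reassoc_of% hn]
  -- the two charts
  have hZY := IsAlgSpace.yon_obj (Zs j)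
  have hUs : IsAlgSpace (pullback g (a j)) :=
    isAlgSpace_of_isPullback (IsPullback.of_hasPullback _ _) hX.diag hQ hZY
  have hUs' : IsAlgSpace (pullback g' (a j)) :=
    isAlgSpace_of_isPullback (IsPullback.of_hasPullback _ _) hX.diag hQ hZY
  have hpe : IsEtaleMor (pullback.fst g (a j)) := AlgSpDecent.DescendMor.isEtaleMor_of_repWith
    (repWith_baseChange (IsPullback.of_hasPullback _ _).flip (ha j))
  have hpe' : IsEtaleMor (pullback.fst g' (a j)) := AlgSpDecent.DescendMor.isEtaleMor_of_repWith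
    (repWith_baseChange (IsPullback.of_hasPullback _ _).flip (ha j))
  let v := pullback.fst g (a j) ≫ u
  let v' := pullback.fst g' (a j) ≫ u
  have hv : IsEtaleMor v := AlgSpTopInv.isEtaleMor_comp hpe hu
  have hv' : IsEtaleMor v' := AlgSpTopInv.isEtaleMor_comp hpe' hu
  obtain ⟨κi, hκ⟩ : ∃ κi : ∀ i, pullback v (ι i) ⟶ pullback g' (a j),
      ∀ i, κi i ≫ pullback.fst _ _ = pullback.fst v (ι i) ≫ pullback.fst g (a j) ∧
        κi i ≫ pullback.snd _ _ = pullback.fst v (ι i) ≫ pullback.snd g (a j) := by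
    refine ⟨fun i ↦ pullback.lift _ _ ?_, fun i ↦
      ⟨pullback.lift_fst _ _ _, pullback.lift_snd _ _ _⟩⟩
    have e1 : (pullback.fst v (ι i) ≫ pullback.fst g (a j)) ≫ u =
        pullback.snd v (ι i) ≫ ι i := by rw [Category.assoc]; exact pullback.condition
    have e2 := congrArg (fun r ↦ pullback.lift _ _ e1 ≫ r) (h i)
    simp only [pullback.lift_fst_assoc] at e2
    rw [← e2, Category.assoc, Category.assoc, pullback.condition]
  have hfull := H.full _ _ hUs hUs' v v' hv hv' κi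
    (fun i ↦ by rw [← Category.assoc, (hκ i).1, Category.assoc]; exact pullback.condition)
    (fun i i' f ↦ by
      refine pullback.hom_ext ?_ ?_
      · rw [Category.assoc, (hκ i').1, (hκ i).1, tr, pullback.lift_fst_assoc]
      · rw [Category.assoc, (hκ i').2, (hκ i).2, tr, pullback.lift_fst_assoc])
  obtain ⟨m, ⟨hm, hmk⟩, -⟩ := hfull
  have hmq : m ≫ pullback.fst g' (a j) = pullback.fst g (a j) :=
    eq_of_agree H hUs hQ hv hu (by rw [Category.assoc]; exact hm) rfl fun i ↦ by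
      rw [reassoc_of% (hmk i), (hκ i).1]
  suffices hπ : m ≫ pullback.snd g' (a j) = pullback.snd g (a j) by
    rw [pullback.condition, ← hπ, Category.assoc, ← pullback.condition, reassoc_of% hmq]
  -- both maps to the affine chart lie over the chart of the base
  have hXB : IsAlgSpace (pullback tC (b j)) :=
    isAlgSpace_of_isPullback (IsPullback.of_hasPullback _ _) H.hB.diag H.hC (IsAlgSpace.yon_obj _)
  have hfe : IsEtaleMor (pullback.fst tC (b j)) := AlgSpDecent.DescendMor.isEtaleMor_of_repWith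
    (repWith_baseChange (IsPullback.of_hasPullback _ _).flip (hb j))
  have hvB : v ≫ tC = (pullback.snd g (a j) ≫ (yon S).map (z j)) ≫ b j := by
    show (pullback.fst g (a j) ≫ u) ≫ tC = _
    rw [Category.assoc, ← hg, pullback.condition_assoc, hab, Category.assoc]
  have hvB' : v ≫ tC = ((m ≫ pullback.snd g' (a j)) ≫ (yon S).map (z j)) ≫ b j := by
    show (pullback.fst g (a j) ≫ u) ≫ tC = _
    rw [Category.assoc, ← hg', ← hmq]
    simp only [Category.assoc]
    rw [pullback.condition_assoc, hab]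
  let n₁ := pullback.lift _ _ hvB
  let n₂ := pullback.lift _ _ hvB'
  have hn : n₁ = n₂ := eq_of_agree H hUs hXB hv hfe (pullback.lift_fst _ _ _)
    (pullback.lift_fst _ _ _) fun i ↦ by
      refine pullback.hom_ext ?_ ?_
      · simp only [n₁, n₂, Category.assoc, pullback.lift_fst]
      · simp only [n₁, n₂, Category.assoc, pullback.lift_snd]
        rw [reassoc_of% (hmk i), reassoc_of% (hκ i).2]
  have hme : IsEtaleMor n₁ := AlgSpTopInv.isEtaleMor_of_comp hUs hXB H.hC
    (show IsEtaleMor (n₁ ≫ pullback.fst tC (b j)) by rw [pullback.lift_fst]; exact hv) hfe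
  let D'' : I ⥤ Sp S :=
    { obj := fun i ↦ pullback v (ι i)
      map := fun f ↦ tr H.hι v f
      map_id := fun i ↦ pullback.hom_ext (by rw [tr, pullback.lift_fst, Category.id_comp])
        (by rw [tr, pullback.lift_snd, D.map_id, Category.comp_id, Category.id_comp])
      map_comp := fun f f' ↦ pullback.hom_ext
        (by simp only [tr, Category.assoc, pullback.lift_fst])
        (by simp only [tr, Category.assoc, pullback.lift_snd, pullback.lift_snd_assoc, D.map_comp]) }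
  let β : D'' ⟶ D :=
    { app := fun i ↦ pullback.snd v (ι i)
      naturality := fun i i' f ↦ pullback.lift_snd _ _ _ }
  refine (existsUnique_affine H (D' := D'') (α := β) (k := fun i ↦ pullback.fst v (ι i))
    (q := fun i ↦ pullback.fst v (ι i) ≫ pullback.snd g (a j)) (z := z j) (hZ j) (hB' j) (hb j)
    hUs hme (pullback.lift_fst _ _ _) (fun i ↦ IsPullback.of_hasPullback _ _)
    (fun i i' f ↦ pullback.lift_fst _ _ _)
    (fun i i' f ↦ by rw [← Category.assoc]; exact congrArg (· ≫ _) (pullback.lift_fst _ _ _))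
    (fun i ↦ by simp only [n₁, Category.assoc, pullback.lift_snd])).unique
    ⟨?_, fun i ↦ ?_⟩ ⟨(pullback.lift_snd _ _ _).symm, fun i ↦ rfl⟩
  · rw [hn]; exact (pullback.lift_snd _ _ _).symm
  · rw [reassoc_of% (hmk i), (hκ i).2]

/-- Morphisms out of the colimit. -/
theorem existsUnique_desc {X : Sp S} (hX : IsAlgSpace X) (x : X ⟶ B)
    (ξ : ∀ i, D.obj i ⟶ X) (hξx : ∀ i, ξ i ≫ x = ι i ≫ tC)
    (hξ : ∀ ⦃i j : I⦄ (f : i ⟶ j), D.map f ≫ ξ j = ξ i) :
    ∃! g : C ⟶ X, g ≫ x = tC ∧ ∀ i, ι i ≫ g = ξ i := by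
  have hid : IsEtaleMor (𝟙 C) := fun U φ hφ ↦ by rw [Category.comp_id]; exact hφ
  refine existsUnique_of_exists_of_unique ?_ fun g g' hg hg' ↦
    eq_of_agree_target H H.hC hX hid x (by rw [hg.1, Category.id_comp])
      (by rw [hg'.1, Category.id_comp]) fun i ↦ by
        rw [show pullback.fst (𝟙 C) (ι i) = pullback.snd (𝟙 C) (ι i) ≫ ι i by
          rw [← pullback.condition, Category.comp_id], Category.assoc, Category.assoc, hg.2, hg'.2]
  obtain ⟨κ, Zs, B', z, a, b, hZ, hB', ha, hb, has, hab⟩ := exists_adapted hX H.hB x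
  -- for each chart of `X`, the descended space and its map to the chart
  have chartX : ∀ j : κ, ∃ (V : Sp S) (_ : IsAlgSpace V) (e : V ⟶ C)
      (k : ∀ i, pullback (ξ i) (a j) ⟶ V) (gV : V ⟶ X), IsEtaleMor e ∧
      (∀ i, IsPullback (k i) (pullback.fst _ _) e (ι i)) ∧
      (∀ i, k i ≫ gV = pullback.fst _ _ ≫ ξ i) ∧ gV ≫ x = e ≫ tC := by
    intro j
    have ht : ∀ {i i' : I} (f : i ⟶ i'),
        (pullback.fst (ξ i) (a j) ≫ D.map f) ≫ ξ i' = pullback.snd (ξ i) (a j) ≫ a j := fun f ↦ by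
      rw [Category.assoc, hξ, pullback.condition]
    let D'' : I ⥤ Sp S :=
      { obj := fun i ↦ pullback (ξ i) (a j)
        map := fun f ↦ pullback.lift _ _ (ht f)
        map_id := fun i ↦ pullback.hom_ext
          (by rw [pullback.lift_fst, D.map_id, Category.comp_id, Category.id_comp])
          (by rw [pullback.lift_snd, Category.id_comp])
        map_comp := fun f f' ↦ pullback.hom_ext
          (by simp only [Category.assoc, pullback.lift_fst, pullback.lift_fst_assoc, D.map_comp])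
          (by simp only [Category.assoc, pullback.lift_snd]) }
    let β : D'' ⟶ D :=
      { app := fun i ↦ pullback.fst (ξ i) (a j)
        naturality := fun i i' f ↦ pullback.lift_fst _ _ _ }
    obtain ⟨V, hV, e, k, he, sq, hk⟩ := H.exist D'' β
      (fun i ↦ isAlgSpace_of_isPullback (IsPullback.of_hasPullback _ _) hX.diag (H.hD i)
        (IsAlgSpace.yon_obj _))
      (fun i i' f ↦ by
        refine IsPullback.of_right ?_ (pullback.lift_fst _ _ _)
          (IsPullback.of_hasPullback (ξ i') (a j)).flip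
        show IsPullback (pullback.lift _ _ (ht f) ≫ pullback.snd _ _) _ _ _
        rw [pullback.lift_snd, hξ]
        exact (IsPullback.of_hasPullback (ξ i) (a j)).flip)
      (fun i ↦ AlgSpDecent.DescendMor.isEtaleMor_of_repWith
        (repWith_baseChange (IsPullback.of_hasPullback _ _).flip (ha j)))
    have hXB : IsAlgSpace (pullback tC (b j)) := isAlgSpace_of_isPullback
      (IsPullback.of_hasPullback _ _) H.hB.diag H.hC (IsAlgSpace.yon_obj _)
    have hfe : IsEtaleMor (pullback.fst tC (b j)) := AlgSpDecent.DescendMor.isEtaleMor_of_repWith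
      (repWith_baseChange (IsPullback.of_hasPullback _ _).flip (hb j))
    -- the map to the chart of the base
    let l : ∀ i, pullback e (ι i) ⟶ D''.obj i := fun i ↦ (sq i).lift _ _ pullback.condition
    have hl₁ : ∀ i, l i ≫ k i = pullback.fst _ _ := fun i ↦ (sq i).lift_fst _ _ _
    have hl₂ : ∀ i, l i ≫ pullback.fst (ξ i) (a j) = pullback.snd _ _ := fun i ↦
      (sq i).lift_snd _ _ _
    obtain ⟨κi, hκ⟩ : ∃ κi : ∀ i, pullback e (ι i) ⟶ pullback tC (b j),
        ∀ i, κi i ≫ pullback.fst _ _ = pullback.snd e (ι i) ≫ ι i ∧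
          κi i ≫ pullback.snd _ _ = l i ≫ pullback.snd _ _ ≫ (yon S).map (z j) := by
      refine ⟨fun i ↦ pullback.lift _ _ ?_, fun i ↦
        ⟨pullback.lift_fst _ _ _, pullback.lift_snd _ _ _⟩⟩
      simp only [Category.assoc]
      rw [← hab, ← pullback.condition_assoc (f := ξ i) (g := a j), reassoc_of% (hl₂ i), hξx]
    have hnat : ∀ ⦃i i' : I⦄ (f : i ⟶ i'), tr H.hι e f ≫ l i' = l i ≫ D''.map f := fun i i' f ↦ by
      refine (sq i').hom_ext ?_ ?_
      · rw [Category.assoc, Category.assoc, hl₁, hk, hl₁, tr, pullback.lift_fst]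
      · show (_ ≫ l i') ≫ pullback.fst _ _ = (l i ≫ pullback.lift _ _ (ht f)) ≫ pullback.fst _ _
        rw [Category.assoc, Category.assoc, hl₂, pullback.lift_fst, reassoc_of% (hl₂ i), tr,
          pullback.lift_snd]
    obtain ⟨m, ⟨hm, hmk⟩, -⟩ := H.full V (pullback tC (b j)) hV hXB e (pullback.fst _ _) he hfe κi
      (fun i ↦ (hκ i).1) fun i i' f ↦ by
        refine pullback.hom_ext ?_ ?_
        · rw [Category.assoc, (hκ i').1, (hκ i).1, tr, pullback.lift_snd_assoc, Category.assoc, H.hι]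
        · rw [Category.assoc, (hκ i').2, (hκ i).2, reassoc_of% (hnat f)]
          show l i ≫ pullback.lift _ _ (ht f) ≫ pullback.snd _ _ ≫ _ = _
          rw [pullback.lift_snd_assoc]
    have hme : IsEtaleMor m :=
      AlgSpTopInv.isEtaleMor_of_comp hV hXB H.hC (by rw [hm]; exact he) hfe
    have hqz : ∀ i, pullback.snd (ξ i) (a j) ≫ (yon S).map (z j) =
        k i ≫ m ≫ pullback.snd tC (b j) := fun i ↦ by
      have h1 : pullback.lift _ _ (sq i).w ≫ l i = 𝟙 (D''.obj i) := (sq i).hom_ext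
        (by rw [Category.assoc, hl₁, pullback.lift_fst, Category.id_comp])
        (by show (_ ≫ l i) ≫ pullback.fst _ _ = 𝟙 _ ≫ _
            rw [Category.assoc, hl₂, pullback.lift_snd, Category.id_comp])
      have h2 := congrArg (fun r ↦ pullback.lift _ _ (sq i).w ≫ r ≫ pullback.snd tC (b j)) (hmk i)
      simp only [Category.assoc, pullback.lift_fst_assoc, (hκ i).2, reassoc_of% h1] at h2
      exact h2.symm
    obtain ⟨w, ⟨hw₁, hw₂⟩, -⟩ := existsUnique_affine H (α := β) (q := fun i ↦ pullback.snd (ξ i) (a j))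
      (z := z j) (hZ j) (hB' j) (hb j) hV hme hm sq hk (fun i i' f ↦ pullback.lift_snd _ _ _) hqz
    refine ⟨V, hV, e, k, w ≫ a j, he, sq, fun i ↦ by
      rw [← Category.assoc, hw₂, pullback.condition], ?_⟩
    rw [Category.assoc, hab, reassoc_of% hw₁, ← pullback.condition, reassoc_of% hm]
  choose V hV e k gV he sq hkg hgx using chartX
  choose J O c hO hc hcs using fun j ↦ exists_affine_family (hV j)
  let cc : ∀ x : Σ j, J j, (yon S).obj (O x.1 x.2) ⟶ C := fun x ↦ c x.1 x.2 ≫ e x.1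
  have hcc : ∀ x, RepWith @Etale (cc x) := fun x ↦ he x.1 (c x.1 x.2) (hc x.1 x.2)
  let Ω : Set (Points C) := ⋃ x, Set.range (Points.ofPt (cc x))
  have hsurj : ∀ y : Points C, ∃ x o, Points.ofPt (cc x) o = y := by
    obtain ⟨W, jW, hW, hjW, hrW⟩ := exists_open_subspace H.hC
      (W := Ω) (isOpen_iUnion fun x ↦ (isOpenMap_ofPt (hcc x)).isOpen_range)
    have hlift : ∀ i, ∃ d, d ≫ jW = ι i := fun i ↦ by
      rw [exists_lift_iff_range_subset hjW, hrW]
      rintro _ ⟨y, rfl⟩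
      obtain ⟨j, o, ho⟩ := has (Points.map (ξ i) y)
      obtain ⟨u, hu, -⟩ := exists_of_isPullback (IsPullback.of_hasPullback (ξ i) (a j)) y
        (Points.map ((Iso.refl _).hom : (yon S).obj (Zs j) ⟶ _) (Points.ofPt (𝟙 _) o)) (by
          rw [Points.map_ofPt, Points.map_ofPt, ← ho]; simp)
      obtain ⟨l, o', ho'⟩ := hcs j (Points.map (k j i) u)
      refine Set.mem_iUnion.2 ⟨⟨j, l⟩, o', ?_⟩
      rw [← hu, ← Points.map_comp, ← (sq j i).w, Points.map_comp, ← ho', Points.map_ofPt]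
    choose d hd using hlift
    haveI : Mono jW := mono_of_repWith (P := @IsOpenImmersion)
      (fun _ _ g (_ : IsOpenImmersion g) ↦ (inferInstance : Mono g)) hjW
    have hjWe : IsEtaleMor jW := AlgSpDecent.DescendMor.isEtaleMor_of_repWith
      (repWith_mono hjW fun _ _ g (_ : IsOpenImmersion g) ↦ (inferInstance : Etale g))
    obtain ⟨m, ⟨hm, -⟩, -⟩ := H.full C W H.hC hW (𝟙 C) jW hid hjWe
      (fun i ↦ pullback.snd _ _ ≫ d i) (fun i ↦ by rw [Category.assoc, hd]) fun i i' f ↦ by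
        rw [← cancel_mono jW, Category.assoc, Category.assoc, hd, Category.assoc, hd, tr,
          pullback.lift_snd_assoc, Category.assoc, H.hι]
    intro y
    have : y ∈ Set.range (Points.map jW) :=
      ⟨Points.map m y, by rw [← Points.map_comp, hm, Points.map_id]⟩
    rw [hrW] at this
    obtain ⟨x, o, ho⟩ := Set.mem_iUnion.1 this
    exact ⟨x, o, ho⟩
  obtain ⟨g, hg⟩ := exists_desc_family H.hC hcc hsurj (fun x ↦ c x.1 x.2 ≫ gV x.1)
    fun p p' W gp gp' he' ↦ by
      have hQ : IsAlgSpace (pullback (e p.1) (e p'.1)) := isAlgSpace_of_isPullback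
        (IsPullback.of_hasPullback _ _) H.hC.diag (hV _) (hV _)
      have hagree : pullback.fst (e p.1) (e p'.1) ≫ gV p.1 =
          pullback.snd (e p.1) (e p'.1) ≫ gV p'.1 := by
        refine eq_of_agree_target H hQ hX (u := pullback.fst _ _ ≫ e p.1)
          (AlgSpTopInv.isEtaleMor_comp (AlgSpTopInv.isEtaleMor_of_isPullback (hV _) H.hC (hV _)
            (IsPullback.of_hasPullback (e p.1) (e p'.1)).flip (he p'.1)) (he p.1)) x
          (by rw [Category.assoc, hgx, Category.assoc])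
          (by rw [Category.assoc, hgx, ← pullback.condition_assoc, Category.assoc]) fun i ↦ ?_
        have key : ∀ (j : κ) (A : Sp S) (r : A ⟶ V j) (s : A ⟶ D.obj i), r ≫ e j = s ≫ ι i →
            r ≫ gV j = s ≫ ξ i := fun j A r s h ↦ by
          rw [← (sq j i).lift_fst r s h, Category.assoc, hkg, ← Category.assoc, (sq j i).lift_snd]
        rw [← Category.assoc, ← Category.assoc,
          key p.1 _ _ (pullback.snd (pullback.fst (e p.1) (e p'.1) ≫ e p.1) (ι i))
            (by rw [Category.assoc]; exact pullback.condition),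
          key p'.1 _ _ (pullback.snd (pullback.fst (e p.1) (e p'.1) ≫ e p.1) (ι i))
            (by
              rw [Category.assoc]
              exact (congrArg (_ ≫ ·) (pullback.condition (f := e p.1) (g := e p'.1)).symm).trans
                pullback.condition)]
      have h1 : ((yon S).map gp ≫ c p.1 p.2) ≫ e p.1 = ((yon S).map gp' ≫ c p'.1 p'.2) ≫ e p'.1 := by
        simp only [Category.assoc]; exact he'
      have h2 := congrArg (fun r ↦ pullback.lift _ _ h1 ≫ r) hagree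
      simpa only [pullback.lift_fst_assoc, pullback.lift_snd_assoc, Category.assoc] using h2
  refine ⟨g, hom_ext_family H.hC hcc hsurj fun p ↦ ?_, fun i ↦ hom_ext fun T ζ ↦ ?_⟩
  · rw [← Category.assoc, hg, Category.assoc, hgx, Category.assoc]
  · obtain ⟨R, p, p', sqR, hcov⟩ := exists_cover H.hC hcc hsurj (ζ ≫ ι i)
    refine hom_ext_of_family R p hcov fun y ↦ ?_
    rw [reassoc_of% (sqR y).w, hg]
    have h1 : ((yon S).map (p' y) ≫ c y.1 y.2) ≫ e y.1 = ((yon S).map (p y) ≫ ζ) ≫ ι i := by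
      rw [Category.assoc, Category.assoc, ← (sqR y).w]
    have h2 := congrArg ((sq y.1 i).lift _ _ h1 ≫ ·) (hkg y.1 i)
    simp only [← Category.assoc, IsPullback.lift_fst, IsPullback.lift_snd] at h2
    simpa only [Category.assoc] using h2

end Groth.Agent.Lib.AlgSpColimit.EtaleDescent
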