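import Groth.Agent.Lib.AlgSpColimit.Etale

/-!
# Etale descent along cocones in the category of spaces over a base
-/

set_option autoImplicit false
set_option linter.style.haveILetI false

universe w v u

open CategoryTheory CategoryTheory.Limits AlgebraicGeometry
open AlgSp Groth.Agent.Lib.AlgSpace

namespace Groth.Agent.Lib.AlgSpColimit.EtaleDescent

variable {S : Scheme.{u}} {B : Space S} {I : Type v} [Category.{w} I]

/-- A space with a map to `B`, over `B`. -/
noncomputable abbrev mkOver {Z : Sp S} (hZ : IsAlgSpace Z) (h : Z ⟶ B.obj) : Over B :=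
  Over.mk (ObjectProperty.homMk h : (⟨Z, hZ⟩ : Space S) ⟶ B)

/-- A map over `B`. -/
noncomputable abbrev mkOverHom {T T' : Over B} (k : T.left.obj ⟶ T'.left.obj)
    (w : k ≫ T'.hom.hom = T.hom.hom) : T ⟶ T' :=
  Over.homMk (ObjectProperty.homMk k) (ObjectProperty.hom_ext _ w)

theorem over_hom_ext {T T' : Over B} {a b : T ⟶ T'} (h : a.left.hom = b.left.hom) : a = b :=
  Over.OverMorphism.ext (ObjectProperty.hom_ext _ h)

theorem over_w {T T' : Over B} (f : T ⟶ T') : f.left.hom ≫ T'.hom.hom = T.hom.hom :=
  congrArg InducedCategory.Hom.hom (Over.w f)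

variable (D : I ⥤ Over B) (c : Cocone D)

/-- The underlying diagram of sheaves. -/
noncomputable def base : I ⥤ Sp S :=
  D ⋙ Over.forget B ⋙ ObjectProperty.ι _

theorem base_w ⦃i j : I⦄ (f : i ⟶ j) :
    (base D).map f ≫ (c.ι.app j).left.hom = (c.ι.app i).left.hom :=
  congrArg (fun r ↦ r.left.hom) (c.w f)

/-- The transition maps of the base change. -/
noncomputable def trB {U : Sp S} (u : U ⟶ c.pt.left.obj) {i j : I} (f : i ⟶ j) :
    pullback u (c.ι.app i).left.hom ⟶ pullback u (c.ι.app j).left.hom :=
  tr (D := base D) (ι := fun i ↦ ((c.ι.app i).left.hom : (base D).obj i ⟶ c.pt.left.obj))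
    (base_w D c) u f

theorem trB_fst {U : Sp S} (u : U ⟶ c.pt.left.obj) {i j : I} (f : i ⟶ j) :
    trB D c u f ≫ pullback.fst u (c.ι.app j).left.hom = pullback.fst u (c.ι.app i).left.hom :=
  pullback.lift_fst _ _ _

theorem trB_snd {U : Sp S} (u : U ⟶ c.pt.left.obj) {i j : I} (f : i ⟶ j) :
    trB D c u f ≫ pullback.snd u (c.ι.app j).left.hom =
      pullback.snd u (c.ι.app i).left.hom ≫ (D.map f).left.hom :=
  pullback.lift_snd _ _ _

/-- The base change of the diagram along a space over the tip, over `B`. -/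
noncomputable def baseChange {U : Sp S} (hU : IsAlgSpace U) (u : U ⟶ c.pt.left.obj) : I ⥤ Over B where
  obj i := mkOver (isAlgSpace_of_isPullback (IsPullback.of_hasPullback u (c.ι.app i).left.hom)
    c.pt.left.property.diag hU (D.obj i).left.property)
    (pullback.snd u (c.ι.app i).left.hom ≫ (D.obj i).hom.hom)
  map {i j} f := mkOverHom (trB D c u f) (by
    show trB D c u f ≫ pullback.snd _ _ ≫ _ = pullback.snd _ _ ≫ _
    rw [← Category.assoc, trB_snd, Category.assoc, over_w])
  map_id i := over_hom_ext (by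
    show trB D c u (𝟙 i) = 𝟙 _
    refine pullback.hom_ext ?_ ?_
    · rw [trB_fst, Category.id_comp]
    · rw [trB_snd, D.map_id, Category.id_comp]; exact Category.comp_id _)
  map_comp {i j k} f g := over_hom_ext (by
    show trB D c u (f ≫ g) = trB D c u f ≫ trB D c u g
    refine pullback.hom_ext ?_ ?_
    · rw [Category.assoc, trB_fst, trB_fst, trB_fst]
    · rw [Category.assoc, trB_snd, trB_snd, ← Category.assoc (trB D c u f), trB_snd, D.map_comp,
        Category.assoc]
      rfl)

/-- Its projection to the diagram. -/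
noncomputable def baseChangeHom {U : Sp S} (hU : IsAlgSpace U) (u : U ⟶ c.pt.left.obj) :
    baseChange D c hU u ⟶ D where
  app i := mkOverHom (T := (baseChange D c hU u).obj i)
    (pullback.snd u (c.ι.app i).left.hom) rfl
  naturality i j f := over_hom_ext (trB_snd D c u f)

/-- Its projection to the space. -/
noncomputable def baseChangePt {U : Sp S} (hU : IsAlgSpace U) (u : U ⟶ c.pt.left.obj) :
    baseChange D c hU u ⟶ (Functor.const I).obj (mkOver hU (u ≫ c.pt.hom.hom)) where
  app i := mkOverHom (T := (baseChange D c hU u).obj i) (T' := mkOver hU (u ≫ c.pt.hom.hom))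
    (pullback.fst u (c.ι.app i).left.hom) (by
      show pullback.fst u _ ≫ u ≫ c.pt.hom.hom = pullback.snd u (c.ι.app i).left.hom ≫ _
      rw [← over_w (c.ι.app i), pullback.condition_assoc]
      rfl)
  naturality i j f := over_hom_ext ((trB_fst D c u f).trans (Category.comp_id _).symm)

end Groth.Agent.Lib.AlgSpColimit.EtaleDescent
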