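import Groth.Agent.Lib.AlgSpMor.SchImage.Main
import Groth.Agent.Lib.HensChart.Coprod
import Mathlib.CategoryTheory.Limits.Shapes.Pullback.Equifibered
import Mathlib.CategoryTheory.Limits.Over

/-!
# Colimits of schemes that remain colimits among algebraic spaces
-/

set_option autoImplicit false
set_option linter.style.haveILetI false

universe w v u

open CategoryTheory CategoryTheory.Limits AlgebraicGeometry
open AlgSp Groth.Agent.Lib.AlgSpace Groth.Agent.Lib.AlgSpMor Groth.Agent.Lib.AlgSpMor.SchImage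

namespace Groth.Agent.Lib.AlgSpColimit

variable {S : Scheme.{u}} {I : Type v} [Category.{w} I]

/-- Maps from a colimit of schemes to a sheaf with representable diagonal are determined by their
restrictions to the terms. -/
theorem eq_of_isColimit {D : I ⥤ Over S} {c : Cocone D} (hc : IsColimit c) {X : Sp S}
    (hX : Representable (Limits.diag X)) (g g' : (yon S).obj c.pt ⟶ X)
    (h : ∀ i, (yon S).map (c.ι.app i) ≫ g = (yon S).map (c.ι.app i) ≫ g') : g = g' := by
  obtain ⟨Z, p, q, sq⟩ := exists_isPullback_yon hX g g'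
  choose r hr using fun i ↦ (yon S).map_surjective (sq.lift _ _ (h i))
  have hp : ∀ i, r i ≫ p = c.ι.app i := fun i ↦ (yon S).map_injective (by
    rw [Functor.map_comp, hr, sq.lift_fst])
  have hq : ∀ i, r i ≫ q = c.ι.app i := fun i ↦ (yon S).map_injective (by
    rw [Functor.map_comp, hr, sq.lift_snd])
  let t : Cocone D :=
    { pt := Z
      ι :=
        { app := r
          naturality := fun i j f ↦ by
            refine Eq.trans ((yon S).map_injective (sq.hom_ext ?_ ?_)) (Category.comp_id _).symm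
            · rw [← Functor.map_comp, ← Functor.map_comp, Category.assoc, hp, hp, c.w]
            · rw [← Functor.map_comp, ← Functor.map_comp, Category.assoc, hq, hq, c.w] } }
  have h1 : hc.desc t ≫ p = 𝟙 _ := hc.hom_ext fun i ↦ by
    rw [hc.fac_assoc, Category.comp_id]; exact hp i
  have h2 : hc.desc t ≫ q = 𝟙 _ := hc.hom_ext fun i ↦ by
    rw [hc.fac_assoc, Category.comp_id]; exact hq i
  calc g = (yon S).map (hc.desc t ≫ p) ≫ g := by rw [h1, CategoryTheory.Functor.map_id, Category.id_comp]
    _ = (yon S).map (hc.desc t ≫ q) ≫ g' := by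
      rw [Functor.map_comp, Functor.map_comp, Category.assoc, Category.assoc, sq.w]
    _ = g' := by rw [h2, CategoryTheory.Functor.map_id, Category.id_comp]

/-- The projection of a fibre product of schemes over a sheaf is separated if the other factor is. -/
theorem isSeparated_of_isPullback {X : Sp S} {U V W : Over S} {p : U ⟶ V} {q : U ⟶ W}
    {a : (yon S).obj V ⟶ X} {b : (yon S).obj W ⟶ X}
    (sq : IsPullback ((yon S).map p) ((yon S).map q) a b) [IsSeparated W.hom] :
    IsSeparated p.left := by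
  let l : U.left ⟶ pullback V.hom W.hom := pullback.lift p.left q.left (by rw [Over.w, Over.w])
  have e1 : l ≫ pullback.fst V.hom W.hom = p.left := pullback.lift_fst _ _ _
  have e2 : l ≫ pullback.snd V.hom W.hom = q.left := pullback.lift_snd _ _ _
  haveI : Mono l := ⟨fun {A} a₁ a₂ ha ↦ by
    have h1 : a₁ ≫ p.left = a₂ ≫ p.left := by rw [← e1, reassoc_of% ha]
    have h2 : a₁ ≫ q.left = a₂ ≫ q.left := by rw [← e2, reassoc_of% ha]
    have hU : a₁ ≫ U.hom = a₂ ≫ U.hom := by rw [← Over.w p, reassoc_of% h1]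
    let T : Over S := Over.mk (a₁ ≫ U.hom)
    let b₁ : T ⟶ U := Over.homMk a₁ rfl
    let b₂ : T ⟶ U := Over.homMk a₂ hU.symm
    have : b₁ = b₂ := (yon S).map_injective (sq.hom_ext
      (by rw [← Functor.map_comp, ← Functor.map_comp]; congr 1; exact Over.OverMorphism.ext h1)
      (by rw [← Functor.map_comp, ← Functor.map_comp]; congr 1; exact Over.OverMorphism.ext h2))
    exact congrArg (fun b : T ⟶ U ↦ b.left) this⟩
  rw [← e1]
  infer_instance

/-- A colimit of schemes with good descent for etale morphisms is a colimit among algebraic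
spaces. -/
theorem existsUnique_desc {D : I ⥤ Over S} {c : Cocone D}
    (h₁ : IsColimit ((Over.forget S).mapCocone c))
    (h₂ : ∀ x : ↥c.pt.left, ∃ (i : I) (y : ↥(D.obj i).left), (c.ι.app i).left y = x)
    (h₃ : ∀ (D' : I ⥤ Over S) (α : D' ⟶ D) (c' : Cocone D') (a : c'.pt ⟶ c.pt), Etale a.left →
      (∀ i, IsPullback (c'.ι.app i) (α.app i) a (c.ι.app i)) →
        Nonempty (IsColimit ((Over.forget S).mapCocone c')))
    (h₄ : ∀ (D' : I ⥤ Over S) (α : D' ⟶ D), NatTrans.Equifibered α →
      (∀ i, Etale (α.app i).left) → (∀ i, IsSeparated (α.app i).left) →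
      ∃ (c' : Cocone D') (a : c'.pt ⟶ c.pt), Etale a.left ∧
        ∀ i, IsPullback (c'.ι.app i) (α.app i) a (c.ι.app i))
    {X : Sp S} (hX : IsAlgSpace X) (ξ : ∀ i, (yon S).obj (D.obj i) ⟶ X)
    (hξ : ∀ ⦃i j : I⦄ (f : i ⟶ j), (yon S).map (D.map f) ≫ ξ j = ξ i) :
    ∃! g : (yon S).obj c.pt ⟶ X, ∀ i, (yon S).map (c.ι.app i) ≫ g = ξ i := by
  refine existsUnique_of_exists_of_unique ?_ fun g g' hg hg' ↦
    eq_of_isColimit (isColimitOfReflects (Over.forget S) h₁) hX.diag g g' fun i ↦
      (hg i).trans (hg' i).symm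
  obtain ⟨κ, O, π, hO, he, hs⟩ := exists_sigma_atlas hX
  haveI : ∀ j, IsSeparated (O j).hom := fun j ↦ by
    haveI := hO j
    infer_instance
  haveI : IsSeparated (sigmaOver O).hom := HensChart.isSeparated_sigmaDesc _
  -- the base change of the atlas along the terms
  choose U p q sqU using fun i ↦ exists_isPullback_yon hX.diag (ξ i) π
  have hw : ∀ {i j} (f : i ⟶ j),
      ((yon S).map (p i ≫ D.map f)) ≫ ξ j = (yon S).map (q i) ≫ π := fun {i j} f ↦ by
    rw [Functor.map_comp, Category.assoc, hξ, (sqU i).w]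
  choose t ht using fun {i j} (f : i ⟶ j) ↦ (yon S).map_surjective ((sqU j).lift _ _ (hw f))
  have ht₁ : ∀ {i j} (f : i ⟶ j), t f ≫ p j = p i ≫ D.map f := fun f ↦ (yon S).map_injective (by
    rw [Functor.map_comp, ht, (sqU _).lift_fst])
  have ht₂ : ∀ {i j} (f : i ⟶ j), t f ≫ q j = q i := fun f ↦ (yon S).map_injective (by
    rw [Functor.map_comp, ht, (sqU _).lift_snd])
  let D' : I ⥤ Over S :=
    { obj := U
      map := fun f ↦ t f
      map_id := fun i ↦ (yon S).map_injective ((sqU i).hom_ext
        (by rw [← Functor.map_comp, ← Functor.map_comp, ht₁, D.map_id, Category.comp_id, Category.id_comp])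
        (by rw [← Functor.map_comp, ← Functor.map_comp, ht₂, Category.id_comp]))
      map_comp := fun {i j k} f g ↦ (yon S).map_injective ((sqU k).hom_ext
        (by rw [← Functor.map_comp, ← Functor.map_comp, ht₁, Category.assoc, ht₁, D.map_comp,
          reassoc_of% (ht₁ f)])
        (by rw [← Functor.map_comp, ← Functor.map_comp, ht₂, Category.assoc, ht₂, ht₂])) }
  let α : D' ⟶ D := { app := p, naturality := fun i j f ↦ ht₁ f }
  have hα : NatTrans.Equifibered α := fun i j f ↦ by
    refine isPullback_of_yon_map (IsPullback.of_right ?_ ?_ (sqU j).flip).flip.flip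
    · rw [← Functor.map_comp, ht₂, hξ]
      exact (sqU i).flip
    · rw [← Functor.map_comp, ← Functor.map_comp]; exact congrArg _ (ht₁ f)
  obtain ⟨c', e, hee, sqe⟩ := h₄ D' α hα (fun i ↦ repWith_property he (sqU i).flip)
    (fun i ↦ isSeparated_of_isPullback (sqU i))
  let hc' : IsColimit c' := isColimitOfReflects (Over.forget S) (h₃ D' α c' e hee sqe).some
  let tq : Cocone D' :=
    { pt := sigmaOver O
      ι := { app := q, naturality := fun i j f ↦ (ht₂ f).trans (Category.comp_id _).symm } }
  let g₀ : (yon S).obj c'.pt ⟶ X := (yon S).map (hc'.desc tq) ≫ π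
  have hg₀ : ∀ i, (yon S).map (c'.ι.app i) ≫ g₀ = (yon S).map (p i) ≫ ξ i := fun i ↦ by
    rw [← Category.assoc, ← Functor.map_comp, hc'.fac, (sqU i).w]
  haveI := hee
  -- the cover of the colimit
  haveI : Surjective e.left := ⟨fun x ↦ by
    obtain ⟨i, y, rfl⟩ := h₂ x
    haveI : Surjective (p i).left := repWith_property hs (sqU i).flip
    obtain ⟨z, rfl⟩ := (p i).left.surjective y
    refine ⟨(c'.ι.app i).left z, ?_⟩
    rw [← Scheme.Hom.comp_apply, ← Over.comp_left, (sqe i).w, Over.comp_left, Scheme.Hom.comp_apply]⟩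
  have hcov : fppfCover e.left := fppfCover_mk _
  haveI := isLocallySurjective_yon_map e hcov
  let R : Over S := pullback e e
  let r₁ : R ⟶ c'.pt := pullback.fst e e
  let r₂ : R ⟶ c'.pt := pullback.snd e e
  have sqR : IsPullback r₁ r₂ e e := IsPullback.of_hasPullback e e
  -- agreement on the overlaps
  let ρ : R ⟶ c.pt := r₁ ≫ e
  let DR : I ⥤ Over S :=
    { obj := fun i ↦ pullback ρ (c.ι.app i)
      map := fun {i j} f ↦ pullback.map _ _ _ _ (𝟙 _) (D.map f) (𝟙 _) (by simp) (by simp)
      map_id := fun i ↦ by ext1 <;> simp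
      map_comp := fun {i j k} f g ↦ by
        rw [pullback.map_comp]
        congr 1; simp }
  let αR : DR ⟶ D :=
    { app := fun i ↦ pullback.snd ρ (c.ι.app i)
      naturality := fun i j f ↦ pullback.lift_snd _ _ _ }
  let cR : Cocone DR :=
    { pt := R
      ι :=
        { app := fun i ↦ pullback.fst ρ (c.ι.app i)
          naturality := fun i j f ↦ (pullback.lift_fst _ _ _).trans rfl } }
  have heR : Etale ρ.left := by
    haveI : Etale r₁.left := MorphismProperty.of_isPullback (P := @Etale)
      (sqR.map (Over.forget S)).flip hee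
    exact inferInstanceAs (Etale (r₁.left ≫ e.left))
  let hcR : IsColimit cR := isColimitOfReflects (Over.forget S)
    (h₃ DR αR cR ρ heR fun i ↦ IsPullback.of_hasPullback ρ (c.ι.app i)).some
  have key : ∀ r : R ⟶ c'.pt, r ≫ e = ρ → ∀ i, (yon S).map (cR.ι.app i) ≫ (yon S).map r ≫ g₀ =
      (yon S).map (αR.app i) ≫ ξ i := by
    intro r hr i
    obtain ⟨l, hl₁, hl₂⟩ : ∃ l, l ≫ c'.ι.app i = cR.ι.app i ≫ r ∧ l ≫ p i = αR.app i :=
      ⟨(sqe i).lift _ _ (by rw [Category.assoc, hr]; exact pullback.condition),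
        (sqe i).lift_fst _ _ _, (sqe i).lift_snd _ _ _⟩
    rw [← Category.assoc, ← Functor.map_comp, ← hl₁, ← hl₂, Functor.map_comp, Functor.map_comp,
      Category.assoc, Category.assoc, hg₀]
  obtain ⟨g, hg⟩ := exists_desc ((yon S).map e) (isPullback_yon sqR) g₀
    (eq_of_isColimit hcR hX.diag _ _ fun i ↦ (key r₁ rfl i).trans (key r₂ sqR.w.symm i).symm)
  refine ⟨g, fun i ↦ ?_⟩
  haveI : Etale (p i).left := repWith_property he (sqU i).flip
  haveI : Surjective (p i).left := repWith_property hs (sqU i).flip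
  haveI := epi_yon_map (p i) (fppfCover_mk _)
  rw [← cancel_epi ((yon S).map (p i)), ← hg₀, ← hg, ← Category.assoc, ← Category.assoc,
    ← Functor.map_comp, ← Functor.map_comp, (sqe i).w]

end Groth.Agent.Lib.AlgSpColimit
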