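import Groth.Agent.Lib.AlgSpMor.SchImage.Main
import Groth.Agent.Lib.AlgSpFpqc.Rep
import Groth.Agent.Lib.AlgSpTopInv.Basic
import Groth.Agent.Lib.AlgSpDecent.DescendMor
import Groth.Agent.Lib.AlgSpMor.Proper
import Groth.Agent.Lib.AlgSpace.OpenSubExists
import Groth.Agent.Lib.AlgSpColimit.Scheme

/-!
# Colimits of separated spaces that remain colimits among algebraic spaces
-/

set_option autoImplicit false
set_option linter.style.haveILetI false

universe w v u

open CategoryTheory CategoryTheory.Limits AlgebraicGeometry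
open AlgSp Groth.Agent.Lib.AlgSpace Groth.Agent.Lib.AlgSpMor Groth.Agent.Lib.AlgSpMor.SchImage

namespace Groth.Agent.Lib.AlgSpColimit.Separated

variable {S : Scheme.{u}}

/-- A map from a separated scheme to a space is separated. -/
theorem isSeparatedMor_of_isSeparated {X : Sp S} (hX : IsAlgSpace X) {W : Over S}
    [IsSeparated W.hom] (a : (yon S).obj W ⟶ X) : IsSeparatedMor a :=
  AlgSpFpqc.Rep.isSeparatedMor_of_repWith hX (repWith_of_exists fun T ξ ↦ by
    obtain ⟨P, p, q, sq⟩ := exists_isPullback_yon hX.diag ξ a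
    exact ⟨P, p, (yon S).map q, sq.flip, AlgSpColimit.isSeparated_of_isPullback sq⟩)

/-- A map with etale surjective composites from schemes is locally surjective. -/
theorem isLocallySurjective_of_isEtaleMor {V X : Sp S} (hV : IsAlgSpace V) {e : V ⟶ X}
    (he : IsEtaleMor e) (hs : Function.Surjective (Points.map e)) :
    Sheaf.IsLocallySurjective e := by
  obtain ⟨U, φ, hφ, hφs⟩ := hV.atlas
  have h := he φ hφ
  have hsurj : RepWith @Surjective (φ ≫ e) := repWith_surjective_of_points h.rep (by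
    intro z
    obtain ⟨y, rfl⟩ := hs z
    obtain ⟨x, rfl⟩ := surjective_map hφs y
    exact ⟨x, Points.map_comp _ _ _⟩)
  haveI := isLocallySurjective_of_etale h hsurj
  exact Presheaf.isLocallySurjective_of_isLocallySurjective_fac _
    (f₁ := φ.hom) (f₂ := e.hom) (f₃ := (φ ≫ e).hom) rfl

variable {B : Space S} {P : ObjectProperty (Over B)}
  (hP : ∀ T : Over B, P T ↔ IsSeparatedMor T.hom.hom)

/-- A space separated over `B` as an object of the subcategory. -/
abbrev mkObj {Z : Sp S} (hZ : IsAlgSpace Z) (h : Z ⟶ B.obj) (hs : IsSeparatedMor h) :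
    P.FullSubcategory :=
  ⟨Over.mk (ObjectProperty.homMk h : (⟨Z, hZ⟩ : Space S) ⟶ B), (hP _).2 hs⟩

/-- A morphism over `B` as a morphism of the subcategory. -/
abbrev mkHom {T T' : P.FullSubcategory} (k : T.obj.left.obj ⟶ T'.obj.left.obj)
    (w : k ≫ T'.obj.hom.hom = T.obj.hom.hom) : T ⟶ T' :=
  ObjectProperty.homMk (Over.homMk (ObjectProperty.homMk k) (ObjectProperty.hom_ext _ w))

omit hP in
theorem hom_ext {T T' : P.FullSubcategory} {a b : T ⟶ T'} (h : a.hom.left.hom = b.hom.left.hom) :
    a = b :=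
  ObjectProperty.hom_ext _ (Over.OverMorphism.ext (ObjectProperty.hom_ext _ h))

omit hP in
theorem over_w {T T' : P.FullSubcategory} (f : T ⟶ T') :
    f.hom.left.hom ≫ T'.obj.hom.hom = T.obj.hom.hom :=
  congrArg InducedCategory.Hom.hom (Over.w f.hom)

variable {I : Type v} [Category.{w} I]

include hP in
/-- Maps from a colimit of separated spaces to any space over `B` are determined by their
restrictions to the terms. -/
theorem eq_of_isColimit {D : I ⥤ P.FullSubcategory} {c : Cocone D} (hc : IsColimit c) {X : Sp S}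
    (hX : IsAlgSpace X) (x : X ⟶ B.obj) (g g' : c.pt.obj.left.obj ⟶ X)
    (hg : g ≫ x = c.pt.obj.hom.hom) (hg' : g' ≫ x = c.pt.obj.hom.hom)
    (h : ∀ i, (c.ι.app i).hom.left.hom ≫ g = (c.ι.app i).hom.left.hom ≫ g') : g = g' := by
  let t := c.pt.obj.hom.hom
  have sq := IsPullback.of_hasPullback g g'
  let p := pullback.fst g g'
  let q := pullback.snd g g'
  have hpq : p ≫ t = q ≫ t := by
    show p ≫ c.pt.obj.hom.hom = q ≫ c.pt.obj.hom.hom
    conv_lhs => rw [← hg]
    conv_rhs => rw [← hg']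
    rw [reassoc_of% sq.w]
  let l : pullback g g' ⟶ pullback t t := pullback.lift p q hpq
  haveI : Mono l := ⟨fun a b e ↦ sq.hom_ext
    (by
      have := congrArg (fun k ↦ k ≫ pullback.fst t t) e
      simp only [Category.assoc, l] at this
      rwa [pullback.lift_fst] at this)
    (by
      have := congrArg (fun k ↦ k ≫ pullback.snd t t) e
      simp only [Category.assoc, l] at this
      rwa [pullback.lift_snd] at this)⟩
  have hts : IsSeparatedMor t := (hP _).1 c.pt.property
  have hsep : IsSeparatedMor (q ≫ t) := by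
    have h1 : IsSeparatedMor (l ≫ pullback.snd t t ≫ t) :=
      Proper.repWith_diagonal_comp _ (Proper.isSeparatedMor_of_mono_repWith l)
        (Proper.repWith_diagonal_comp _
          (Sep.repWith_diagonal_baseChange (IsPullback.of_hasPullback t t) hts) hts)
    rwa [← Category.assoc, pullback.lift_snd] at h1
  let Z := mkObj hP (isAlgSpace_of_isPullback sq hX.diag c.pt.obj.left.property c.pt.obj.left.property)
    (q ≫ t) hsep
  have hr : ∀ i, pullback.lift _ _ (h i) ≫ q ≫ t = (D.obj i).obj.hom.hom := fun i ↦ by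
    rw [pullback.lift_snd_assoc]; exact over_w (c.ι.app i)
  let r : Cocone D :=
    { pt := Z
      ι :=
        { app := fun i ↦ mkHom (T' := Z) (pullback.lift _ _ (h i)) (hr i)
          naturality := fun i j f ↦ hom_ext (by
            refine Eq.trans ?_ (Category.comp_id _).symm
            have e : (D.map f).hom.left.hom ≫ (c.ι.app j).hom.left.hom = (c.ι.app i).hom.left.hom :=
              congrArg (fun k ↦ k.hom.left.hom) (c.w f)
            refine pullback.hom_ext ?_ ?_
            · show ((D.map f).hom.left.hom ≫ pullback.lift _ _ (h j)) ≫ pullback.fst g g' =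
                pullback.lift _ _ (h i) ≫ pullback.fst g g'
              rw [Category.assoc, pullback.lift_fst, pullback.lift_fst, e]
            · show ((D.map f).hom.left.hom ≫ pullback.lift _ _ (h j)) ≫ pullback.snd g g' =
                pullback.lift _ _ (h i) ≫ pullback.snd g g'
              rw [Category.assoc, pullback.lift_snd, pullback.lift_snd, e]) } }
  let z := hc.desc r
  have h1 : z ≫ mkHom (T := Z) (T' := c.pt) p hpq = 𝟙 _ := hc.hom_ext fun i ↦ by
    rw [hc.fac_assoc, Category.comp_id]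
    exact hom_ext (pullback.lift_fst _ _ _)
  have h2 : z ≫ mkHom (T := Z) (T' := c.pt) q rfl = 𝟙 _ := hc.hom_ext fun i ↦ by
    rw [hc.fac_assoc, Category.comp_id]
    exact hom_ext (pullback.lift_snd _ _ _)
  have k1 : z.hom.left.hom ≫ p = 𝟙 _ := congrArg (fun k ↦ k.hom.left.hom) h1
  have k2 : z.hom.left.hom ≫ q = 𝟙 _ := congrArg (fun k ↦ k.hom.left.hom) h2
  calc g = (z.hom.left.hom ≫ p) ≫ g := by rw [k1, Category.id_comp]
    _ = (z.hom.left.hom ≫ q) ≫ g' := by rw [Category.assoc, Category.assoc, sq.w]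
    _ = g' := by rw [k2, Category.id_comp]

include hP in
/-- A colimit of spaces separated over `B` with good descent for separated etale morphisms is a
colimit among all spaces over `B`. -/
theorem existsUnique_desc {D : I ⥤ P.FullSubcategory} {c : Cocone D} (h₂ : IsColimit c)
    (h₃ : ∀ x : Points c.pt.obj.left.obj, ∃ (i : I) (y : Points (D.obj i).obj.left.obj),
      Points.map (c.ι.app i).hom.left.hom y = x)
    (h₄ : ∀ (D' : I ⥤ P.FullSubcategory) (α : D' ⟶ D) (c' : Cocone D') (a : c'.pt ⟶ c.pt),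
      IsEtaleMor a.hom.left.hom → IsSeparatedMor a.hom.left.hom →
      (∀ i, IsPullback (c'.ι.app i).hom.left.hom (α.app i).hom.left.hom a.hom.left.hom
        (c.ι.app i).hom.left.hom) → Nonempty (IsColimit c'))
    (h₅ : ∀ (D' : I ⥤ P.FullSubcategory) (α : D' ⟶ D),
      (∀ ⦃i j : I⦄ (g : i ⟶ j), IsPullback (D'.map g).hom.left.hom (α.app i).hom.left.hom
        (α.app j).hom.left.hom (D.map g).hom.left.hom) →
      (∀ i, IsEtaleMor (α.app i).hom.left.hom) → (∀ i, IsSeparatedMor (α.app i).hom.left.hom) →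
        ∃ (c' : Cocone D') (a : c'.pt ⟶ c.pt), IsEtaleMor a.hom.left.hom ∧
          IsSeparatedMor a.hom.left.hom ∧ ∀ i, IsPullback (c'.ι.app i).hom.left.hom
            (α.app i).hom.left.hom a.hom.left.hom (c.ι.app i).hom.left.hom)
    {X : Sp S} (hX : IsAlgSpace X) (x : X ⟶ B.obj)
    (ξ : ∀ i, (D.obj i).obj.left.obj ⟶ X) (hξx : ∀ i, ξ i ≫ x = (D.obj i).obj.hom.hom)
    (hξ : ∀ ⦃i j : I⦄ (f : i ⟶ j), (D.map f).hom.left.hom ≫ ξ j = ξ i) :
    ∃! g : c.pt.obj.left.obj ⟶ X, g ≫ x = c.pt.obj.hom.hom ∧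
      ∀ i, (c.ι.app i).hom.left.hom ≫ g = ξ i := by
  refine existsUnique_of_exists_of_unique ?_ fun g g' hg hg' ↦
    eq_of_isColimit hP h₂ hX x g g' hg.1 hg'.1 fun i ↦ (hg.2 i).trans (hg'.2 i).symm
  obtain ⟨κ, O, π, hO, he, hs⟩ := exists_sigma_atlas hX
  haveI : ∀ j, IsSeparated (O j).hom := fun j ↦ by
    haveI := hO j
    infer_instance
  haveI : IsSeparated (sigmaOver O).hom := HensChart.isSeparated_sigmaDesc _
  -- the base change of the atlas along the terms
  let U : I → Sp S := fun i ↦ pullback (ξ i) π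
  let p : ∀ i, U i ⟶ (D.obj i).obj.left.obj := fun i ↦ pullback.fst (ξ i) π
  let q : ∀ i, U i ⟶ (yon S).obj (sigmaOver O) := fun i ↦ pullback.snd (ξ i) π
  have sqU : ∀ i, IsPullback (p i) (q i) (ξ i) π := fun i ↦ IsPullback.of_hasPullback _ _
  have hUs : ∀ i, IsAlgSpace (U i) := fun i ↦ isAlgSpace_of_isPullback (sqU i) hX.diag
    (D.obj i).obj.left.property (IsAlgSpace.yon_obj _)
  have hpe : ∀ i, RepWith @Etale (p i) := fun i ↦ repWith_baseChange (sqU i).flip he
  have hps : ∀ i, IsSeparatedMor (p i) := fun i ↦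
    Sep.repWith_diagonal_baseChange (sqU i).flip (isSeparatedMor_of_isSeparated hX π)
  have ht : ∀ {i j : I} (f : i ⟶ j), (p i ≫ (D.map f).hom.left.hom) ≫ ξ j = q i ≫ π := fun f ↦ by
    rw [Category.assoc, hξ]; exact (sqU _).w
  let D' : I ⥤ P.FullSubcategory :=
    { obj := fun i ↦ mkObj hP (hUs i) (p i ≫ (D.obj i).obj.hom.hom)
        (Proper.repWith_diagonal_comp _ (hps i) ((hP _).1 (D.obj i).property))
      map := fun {i j} f ↦ mkHom (pullback.lift _ _ (ht f)) (by
        show pullback.lift _ _ (ht f) ≫ pullback.fst (ξ j) π ≫ _ = p i ≫ _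
        rw [pullback.lift_fst_assoc, Category.assoc, over_w])
      map_id := fun i ↦ hom_ext (pullback.hom_ext
        ((pullback.lift_fst _ _ _).trans (by simp [p]))
        ((pullback.lift_snd _ _ _).trans (Category.id_comp _).symm))
      map_comp := fun {i j k} f g ↦ hom_ext (pullback.hom_ext
        ((pullback.lift_fst _ _ _).trans (by
          show p i ≫ (D.map (f ≫ g)).hom.left.hom = (pullback.lift _ _ (ht f) ≫
            pullback.lift _ _ (ht g)) ≫ pullback.fst (ξ k) π
          rw [Category.assoc, pullback.lift_fst, pullback.lift_fst_assoc, D.map_comp]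
          simp [p]))
        ((pullback.lift_snd _ _ _).trans (by
          show q i = (pullback.lift _ _ (ht f) ≫ pullback.lift _ _ (ht g)) ≫ pullback.snd (ξ k) π
          rw [Category.assoc, pullback.lift_snd, pullback.lift_snd]))) }
  let α : D' ⟶ D :=
    { app := fun i ↦ mkHom (p i) rfl
      naturality := fun i j f ↦ hom_ext (pullback.lift_fst _ _ _) }
  have hα : ∀ ⦃i j : I⦄ (f : i ⟶ j), IsPullback (D'.map f).hom.left.hom (α.app i).hom.left.hom
      (α.app j).hom.left.hom (D.map f).hom.left.hom := fun i j f ↦ by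
    show IsPullback (pullback.lift _ _ (ht f)) (p i) (p j) (D.map f).hom.left.hom
    refine IsPullback.of_right ?_ (pullback.lift_fst _ _ _) (sqU j).flip
    rw [pullback.lift_snd, hξ]
    exact (sqU i).flip
  obtain ⟨c', e, hee, hes, sqe⟩ := h₅ D' α hα
    (fun i ↦ AlgSpDecent.DescendMor.isEtaleMor_of_repWith (hpe i)) hps
  obtain ⟨hc'⟩ := h₄ D' α c' e hee hes sqe
  let Wobj : P.FullSubcategory := mkObj hP (IsAlgSpace.yon_obj (sigmaOver O)) (π ≫ x)
    (isSeparatedMor_of_isSeparated B.property _)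
  have hqw : ∀ i, q i ≫ π ≫ x = p i ≫ (D.obj i).obj.hom.hom := fun i ↦ by
    rw [← (sqU i).w_assoc, hξx]
  let tq : Cocone D' :=
    { pt := Wobj
      ι :=
        { app := fun i ↦ mkHom (T := D'.obj i) (T' := Wobj) (q i) (hqw i)
          naturality := fun i j f ↦ hom_ext ((pullback.lift_snd _ _ _).trans
            (Category.comp_id _).symm) } }
  let w := (hc'.desc tq).hom.left.hom
  have hw : ∀ i, (c'.ι.app i).hom.left.hom ≫ w = q i := fun i ↦
    congrArg (fun k ↦ k.hom.left.hom) (hc'.fac tq i)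
  let g₀ : c'.pt.obj.left.obj ⟶ X := w ≫ π
  have hg₀ : ∀ i, (c'.ι.app i).hom.left.hom ≫ g₀ = p i ≫ ξ i := fun i ↦ by
    rw [reassoc_of% (hw i)]; exact (sqU i).w.symm
  have hg₀x : g₀ ≫ x = c'.pt.obj.hom.hom := by
    rw [Category.assoc]; exact over_w (hc'.desc tq)
  -- the cover of the colimit
  have hsurj : Function.Surjective (Points.map e.hom.left.hom) := fun z ↦ by
    obtain ⟨i, y, rfl⟩ := h₃ z
    obtain ⟨u, rfl⟩ := surjective_map (repWith_baseChange (sqU i).flip hs) y
    refine ⟨Points.map (c'.ι.app i).hom.left.hom u, ?_⟩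
    rw [← Points.map_comp, (sqe i).w, Points.map_comp]
    rfl
  haveI := isLocallySurjective_of_isEtaleMor c'.pt.obj.left.property hee hsurj
  have sqR := IsPullback.of_hasPullback e.hom.left.hom e.hom.left.hom
  let r₁ := pullback.fst e.hom.left.hom e.hom.left.hom
  let r₂ := pullback.snd e.hom.left.hom e.hom.left.hom
  let ρ := r₁ ≫ e.hom.left.hom
  have hV := c'.pt.obj.left.property
  have hC := c.pt.obj.left.property
  have hRs : IsAlgSpace (pullback e.hom.left.hom e.hom.left.hom) :=
    isAlgSpace_of_isPullback sqR hC.diag hV hV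
  have hρe : IsEtaleMor ρ := AlgSpTopInv.isEtaleMor_comp
    (AlgSpTopInv.isEtaleMor_of_isPullback hV hC hV sqR.flip hee) hee
  have hρs : IsSeparatedMor ρ :=
    Proper.repWith_diagonal_comp _ (Sep.repWith_diagonal_baseChange sqR.flip hes) hes
  -- agreement on the overlaps
  let Robj : P.FullSubcategory := mkObj hP hRs (ρ ≫ c.pt.obj.hom.hom)
    (Proper.repWith_diagonal_comp _ hρs ((hP _).1 c.pt.property))
  let d : ∀ i, pullback ρ (c.ι.app i).hom.left.hom ⟶ (D.obj i).obj.left.obj :=
    fun i ↦ pullback.snd _ _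
  have hds : ∀ i, IsSeparatedMor (d i ≫ (D.obj i).obj.hom.hom) := fun i ↦
    Proper.repWith_diagonal_comp _
      (Sep.repWith_diagonal_baseChange (IsPullback.of_hasPullback _ _) hρs)
      ((hP _).1 (D.obj i).property)
  have hdm : ∀ {i j : I} (f : i ⟶ j), pullback.fst ρ (c.ι.app i).hom.left.hom ≫ ρ =
      (d i ≫ (D.map f).hom.left.hom) ≫ (c.ι.app j).hom.left.hom := fun {i j} f ↦ by
    have e1 : (D.map f).hom.left.hom ≫ (c.ι.app j).hom.left.hom = (c.ι.app i).hom.left.hom :=
      congrArg (fun k ↦ k.hom.left.hom) (c.w f)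
    rw [Category.assoc, e1, pullback.condition]
  let DR : I ⥤ P.FullSubcategory :=
    { obj := fun i ↦ mkObj hP (isAlgSpace_of_isPullback
        (IsPullback.of_hasPullback ρ (c.ι.app i).hom.left.hom) hC.diag hRs
        (D.obj i).obj.left.property) (d i ≫ (D.obj i).obj.hom.hom) (hds i)
      map := fun {i j} f ↦ mkHom (pullback.lift _ _ (hdm f)) (by
        show pullback.lift _ _ (hdm f) ≫ pullback.snd ρ _ ≫ _ = d i ≫ _
        rw [pullback.lift_snd_assoc, Category.assoc, over_w])
      map_id := fun i ↦ hom_ext (pullback.hom_ext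
        ((pullback.lift_fst _ _ _).trans (Category.id_comp _).symm)
        ((pullback.lift_snd _ _ _).trans (by simp [d])))
      map_comp := fun {i j k} f g ↦ hom_ext (pullback.hom_ext
        ((pullback.lift_fst _ _ _).trans (by
          show pullback.fst ρ (c.ι.app i).hom.left.hom = (pullback.lift _ _ (hdm f) ≫
            pullback.lift _ _ (hdm g)) ≫ pullback.fst ρ (c.ι.app k).hom.left.hom
          rw [Category.assoc, pullback.lift_fst, pullback.lift_fst]))
        ((pullback.lift_snd _ _ _).trans (by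
          show d i ≫ (D.map (f ≫ g)).hom.left.hom = (pullback.lift _ _ (hdm f) ≫
            pullback.lift _ _ (hdm g)) ≫ pullback.snd ρ (c.ι.app k).hom.left.hom
          rw [Category.assoc, pullback.lift_snd, pullback.lift_snd_assoc, D.map_comp]
          simp [d]))) }
  let αR : DR ⟶ D :=
    { app := fun i ↦ mkHom (d i) rfl
      naturality := fun i j f ↦ hom_ext (pullback.lift_snd _ _ _) }
  let cR : Cocone DR :=
    { pt := Robj
      ι :=
        { app := fun i ↦ mkHom (T := DR.obj i) (T' := Robj) (pullback.fst _ _) (by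
            show pullback.fst ρ _ ≫ ρ ≫ _ = d i ≫ _
            rw [pullback.condition_assoc]
            exact congrArg (d i ≫ ·) (over_w (c.ι.app i)))
          naturality := fun i j f ↦ hom_ext ((pullback.lift_fst _ _ _).trans
            (Category.comp_id _).symm) } }
  obtain ⟨hcR⟩ := h₄ DR αR cR (mkHom (T := Robj) ρ rfl) hρe hρs fun i ↦
    IsPullback.of_hasPullback ρ (c.ι.app i).hom.left.hom
  have key : ∀ r : pullback e.hom.left.hom e.hom.left.hom ⟶ c'.pt.obj.left.obj,
      r ≫ e.hom.left.hom = ρ → ∀ i,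
        (cR.ι.app i).hom.left.hom ≫ r ≫ g₀ = d i ≫ ξ i := by
    intro r hr i
    obtain ⟨l, hl₁, hl₂⟩ : ∃ l, l ≫ (c'.ι.app i).hom.left.hom = (cR.ι.app i).hom.left.hom ≫ r ∧
        l ≫ (α.app i).hom.left.hom = d i :=
      ⟨(sqe i).lift _ _ (by rw [Category.assoc, hr]; exact pullback.condition),
        (sqe i).lift_fst _ _ _, (sqe i).lift_snd _ _ _⟩
    rw [← reassoc_of% hl₁, hg₀, ← hl₂, Category.assoc]
    rfl
  have hew : ∀ r : pullback e.hom.left.hom e.hom.left.hom ⟶ c'.pt.obj.left.obj,
      r ≫ e.hom.left.hom = ρ → (r ≫ g₀) ≫ x = Robj.obj.hom.hom := fun r hr ↦ by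
    show (r ≫ g₀) ≫ x = ρ ≫ c.pt.obj.hom.hom
    rw [Category.assoc, hg₀x, ← over_w e, reassoc_of% hr]
  obtain ⟨g, hg⟩ := exists_desc e.hom.left.hom sqR g₀
    (eq_of_isColimit hP hcR hX x _ _ (hew r₁ rfl) (hew r₂ sqR.w.symm) fun i ↦
      (key r₁ rfl i).trans (key r₂ sqR.w.symm i).symm)
  refine ⟨g, ?_, fun i ↦ ?_⟩
  · rw [← cancel_epi e.hom.left.hom, reassoc_of% hg, hg₀x, over_w]
  · haveI := isLocallySurjective_of_etale (hpe i) (repWith_baseChange (sqU i).flip hs)
    rw [← cancel_epi (p i), ← hg₀, ← hg, (sqe i).w_assoc]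
    rfl

end Groth.Agent.Lib.AlgSpColimit.Separated
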